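import Mathlib
import Cfsg.Agent.Lib.Higman.LowerCentralLie

/-!
# Breadth of a finite `p`-group: the lower central layers

Graded subgroups of the Lie ring of the lower central series attached to commutators
with a fixed element, and bracket forms given by words in a fixed set of elements.
-/

set_option autoImplicit false

namespace CfsgLib.Breadth

open CfsgLib.Higman
open scoped commutatorElement

variable {G : Type*} [Group G]

/-- The `k`-th homogeneous component, as a subgroup of the Lie ring. -/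
noncomputable def lay (G : Type*) [Group G] (k : ℕ) : AddSubgroup (Gr G) where
  carrier := el k '' (gam G k : Set G)
  zero_mem' := ⟨1, one_mem _, el_one k⟩
  add_mem' := by
    rintro _ _ ⟨g, hg, rfl⟩ ⟨h, hh, rfl⟩
    exact ⟨g * h, mul_mem hg hh, el_mul hg hh⟩
  neg_mem' := by
    rintro _ ⟨g, hg, rfl⟩
    exact ⟨g⁻¹, inv_mem hg, el_inv hg⟩

theorem el_mem_lay {k : ℕ} {g : G} (hg : g ∈ gam G k) : el k g ∈ lay G k := ⟨g, hg, rfl⟩

theorem finite_lay [Finite G] (k : ℕ) : Finite (lay G k) :=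
  Set.Finite.to_subtype ((Set.toFinite (gam G k : Set G)).image _)

theorem mem_gam_zero (g : G) : g ∈ gam G 0 := Subgroup.mem_top g

theorem gam_normal (k : ℕ) : (gam G k).Normal := Subgroup.lowerCentralSeries_normal ⊤ k

theorem gam_one_eq : gam G 1 = commutator G := Subgroup.top_lowerCentralSeries_one

theorem comm_mem_one (g h : G) : ⁅g, h⁆ ∈ gam G 1 := by
  have e : gam G 1 = ⁅gam G 0, (⊤ : Subgroup G)⁆ := gam_succ 0
  rw [e]
  exact Subgroup.commutator_mem_commutator (mem_gam_zero g) (Subgroup.mem_top h)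

theorem el_zero_mul (g h : G) : el 0 (g * h) = el 0 g + el 0 h :=
  el_mul (mem_gam_zero g) (mem_gam_zero h)

theorem el_zero_of_mem {g : G} (hg : g ∈ gam G 1) : el 0 g = 0 := el_of_mem_succ hg

theorem el_zero_zpow (g : G) (m : ℤ) : el 0 (g ^ m) = m • el 0 g := by
  let f : G →* Multiplicative (Gr G) :=
    { toFun := fun x => Multiplicative.ofAdd (el 0 x)
      map_one' := by simp [el_one]
      map_mul' := fun a b => by rw [el_zero_mul, ofAdd_add] }
  have h := map_zpow f g m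
  exact congrArg Multiplicative.toAdd h

theorem lie_mem_lay {i j k : ℕ} {u v : Gr G} (hu : u ∈ lay G i) (hv : v ∈ lay G j)
    (h : i + j + 1 = k) : ⁅u, v⁆ ∈ lay G k := by
  obtain ⟨g, hg, rfl⟩ := hu
  obtain ⟨g', hg', rfl⟩ := hv
  rw [lie_el_el hg hg', h]
  exact el_mem_lay (h ▸ comm_mem hg hg')

theorem lie_el_zero {k : ℕ} (hk : 1 ≤ k) (g : G) {y : G} (hy : y ∈ gam G (k - 1)) :
    ⁅el 0 g, el (k - 1) y⁆ = el k ⁅g, y⁆ := by
  rw [lie_el_el (mem_gam_zero g) hy, show 0 + (k - 1) + 1 = k by omega]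

theorem comm_mem_pred {k : ℕ} (hk : 1 ≤ k) (g : G) {y : G} (hy : y ∈ gam G (k - 1)) :
    ⁅g, y⁆ ∈ gam G k := by
  have h := comm_mem (mem_gam_zero g) hy
  rwa [show 0 + (k - 1) + 1 = k by omega] at h

/-- The commutators of `g` which lie in the `k`-th term come from this subgroup. -/
def cpre (g : G) (k : ℕ) : Subgroup G where
  carrier := {h | ⁅g, h⁆ ∈ gam G k}
  one_mem' := by simp
  mul_mem' := by
    intro a c ha hc
    show ⁅g, a * c⁆ ∈ gam G k
    rw [show ⁅g, a * c⁆ = ⁅g, a⁆ * (a * ⁅g, c⁆ * a⁻¹) by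
      simp [commutatorElement_def, mul_assoc]]
    exact mul_mem ha ((gam_normal k).conj_mem _ hc a)
  inv_mem' := by
    intro a ha
    show ⁅g, a⁻¹⁆ ∈ gam G k
    rw [show ⁅g, a⁻¹⁆ = a⁻¹ * ⁅g, a⁆⁻¹ * a⁻¹⁻¹ by simp [commutatorElement_def, mul_assoc]]
    exact (gam_normal k).conj_mem _ (inv_mem ha) _

theorem mem_cpre {g h : G} {k : ℕ} : h ∈ cpre g k ↔ ⁅g, h⁆ ∈ gam G k := Iff.rfl

theorem cpre_anti (g : G) {i j : ℕ} (h : i ≤ j) : cpre g j ≤ cpre g i :=
  fun _ hx => gam_anti h hx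

theorem cpre_one (g : G) : cpre g 1 = ⊤ :=
  eq_top_iff.2 fun _ _ => comm_mem_one _ _

/-- Taking the component of degree `k` of the commutator with `g`. -/
noncomputable def cmap (g : G) (k : ℕ) : cpre g k →* Multiplicative (Gr G) where
  toFun h := Multiplicative.ofAdd (el k ⁅g, (h : G)⁆)
  map_one' := by simp [el_one]
  map_mul' a c := by
    rw [Subgroup.coe_mul, show ⁅g, (a : G) * (c : G)⁆ =
        ⁅g, (a : G)⁆ * ((a : G) * ⁅g, (c : G)⁆ * (a : G)⁻¹) by
      simp [commutatorElement_def, mul_assoc],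
      el_mul a.2 ((gam_normal k).conj_mem _ c.2 (a : G)), el_conj c.2, ofAdd_add]

theorem el_comm_mul {g a c : G} {k : ℕ} (ha : a ∈ cpre g k) (hc : c ∈ cpre g k) :
    el k ⁅g, a * c⁆ = el k ⁅g, a⁆ + el k ⁅g, c⁆ :=
  congrArg Multiplicative.toAdd (map_mul (cmap g k) ⟨a, ha⟩ ⟨c, hc⟩)

theorem el_comm_inv {g a : G} {k : ℕ} (ha : a ∈ cpre g k) :
    el k ⁅g, a⁻¹⁆ = - el k ⁅g, a⁆ :=
  congrArg Multiplicative.toAdd (map_inv (cmap g k) ⟨a, ha⟩)

/-- The components of degree `k` of the commutators of `g` with elements of `S`. -/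
noncomputable def cset (S : Subgroup G) (g : G) (k : ℕ) : AddSubgroup (Gr G) where
  carrier := (fun h => el k ⁅g, h⁆) '' ((S ⊓ cpre g k : Subgroup G) : Set G)
  zero_mem' := ⟨1, one_mem _, by simp [el_one]⟩
  add_mem' := by
    rintro _ _ ⟨a, ha, rfl⟩ ⟨c, hc, rfl⟩
    exact ⟨a * c, mul_mem ha hc, el_comm_mul ha.2 hc.2⟩
  neg_mem' := by
    rintro _ ⟨a, ha, rfl⟩
    exact ⟨a⁻¹, inv_mem ha, el_comm_inv ha.2⟩

theorem mem_cset {S : Subgroup G} {g : G} {k : ℕ} {e : Gr G} :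
    e ∈ cset S g k ↔ ∃ h, h ∈ S ∧ ⁅g, h⁆ ∈ gam G k ∧ el k ⁅g, h⁆ = e :=
  ⟨fun ⟨h, hh, he⟩ => ⟨h, hh.1, hh.2, he⟩, fun ⟨h, h1, h2, he⟩ => ⟨h, ⟨h1, h2⟩, he⟩⟩

theorem cset_le_lay (S : Subgroup G) (g : G) (k : ℕ) : cset S g k ≤ lay G k := by
  rintro _ ⟨h, hh, rfl⟩
  exact el_mem_lay hh.2

theorem cset_mono {S T : Subgroup G} (h : S ≤ T) (g : G) (k : ℕ) : cset S g k ≤ cset T g k := by
  rintro _ ⟨x, hx, rfl⟩
  exact ⟨x, ⟨h hx.1, hx.2⟩, rfl⟩

/-- The elements by which representatives may be changed in degree `k`. -/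
abbrev gamp (G : Type*) [Group G] (k : ℕ) : Subgroup G := gam G (max (k - 1) 1)

theorem gamp_le_one (k : ℕ) : gamp G k ≤ gam G 1 := gam_anti (le_max_right _ _)

theorem gamp_comm_mem {k : ℕ} {v : G} (hv : v ∈ gamp G k) (h : G) : ⁅v, h⁆ ∈ gam G k :=
  gam_anti (by omega) (comm_mem hv (mem_gam_zero h))

theorem comm_mul_left (g v h : G) : ⁅g * v, h⁆ = g * ⁅v, h⁆ * g⁻¹ * ⁅g, h⁆ := by
  simp [commutatorElement_def, mul_assoc]

theorem comm_mem_mul_iff {j k : ℕ} (hjk : j ≤ k) {g v h : G} (hv : v ∈ gamp G k) :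
    ⁅g * v, h⁆ ∈ gam G j ↔ ⁅g, h⁆ ∈ gam G j := by
  rw [comm_mul_left, Subgroup.mul_mem_cancel_left]
  exact (gam_normal j).conj_mem _ (gam_anti hjk (gamp_comm_mem hv h)) g

theorem el_comm_mul_gamp {j k : ℕ} (hjk : j ≤ k) {g v h : G} (hv : v ∈ gamp G k)
    (hh : ⁅g, h⁆ ∈ gam G j) : el j ⁅g * v, h⁆ = el j ⁅v, h⁆ + el j ⁅g, h⁆ := by
  have hvh : ⁅v, h⁆ ∈ gam G j := gam_anti hjk (gamp_comm_mem hv h)
  rw [comm_mul_left, el_mul ((gam_normal j).conj_mem _ hvh g) hh, el_conj hvh]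

theorem el_comm_gamp_lt {j k : ℕ} (hjk : j < k) {v : G} (hv : v ∈ gamp G k) (h : G) :
    el j ⁅v, h⁆ = 0 :=
  el_of_mem_succ (gam_anti hjk (gamp_comm_mem hv h))

theorem cset_mul_eq {j k : ℕ} (hjk : j < k) (S : Subgroup G) (g : G) {v : G}
    (hv : v ∈ gamp G k) : cset S (g * v) j = cset S g j := by
  ext e
  simp only [mem_cset]
  constructor
  · rintro ⟨h, h1, h2, rfl⟩
    have h2' := (comm_mem_mul_iff hjk.le hv).1 h2
    refine ⟨h, h1, h2', ?_⟩
    rw [el_comm_mul_gamp hjk.le hv h2', el_comm_gamp_lt hjk hv, zero_add]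
  · rintro ⟨h, h1, h2, rfl⟩
    refine ⟨h, h1, (comm_mem_mul_iff hjk.le hv).2 h2, ?_⟩
    rw [el_comm_mul_gamp hjk.le hv h2, el_comm_gamp_lt hjk hv, zero_add]

/-- The subgroup spanned by `X` together with the derived subgroup. -/
abbrev gen (X : Set G) : Subgroup G := Subgroup.closure X ⊔ gam G 1

theorem gen_mono {X Y : Set G} (h : X ⊆ Y) : gen X ≤ gen Y :=
  sup_le_sup_right (Subgroup.closure_mono h) _

theorem gam_one_le_gen (X : Set G) : gam G 1 ≤ gen X := le_sup_right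

theorem subset_gen {X : Set G} {x : G} (hx : x ∈ X) : x ∈ gen X :=
  le_sup_left (a := Subgroup.closure X) (Subgroup.subset_closure hx)

/-- The part of degree `k` of the sum of the images of `ad x`, for `x` in `X`. -/
noncomputable def nsub (X : Set G) (k : ℕ) : AddSubgroup (Gr G) :=
  AddSubgroup.closure {e | ∃ x, x ∈ X ∧ ∃ y, y ∈ gam G (k - 1) ∧ e = ⁅el 0 x, el (k - 1) y⁆}

theorem nsub_le_lay {X : Set G} {k : ℕ} (hk : 1 ≤ k) : nsub X k ≤ lay G k := by
  refine (AddSubgroup.closure_le _).2 ?_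
  rintro _ ⟨x, -, y, hy, rfl⟩
  exact lie_mem_lay (el_mem_lay (mem_gam_zero x)) (el_mem_lay hy) (by omega)

theorem nsub_mono {X Y : Set G} (h : X ⊆ Y) (k : ℕ) : nsub X k ≤ nsub Y k :=
  AddSubgroup.closure_mono fun _ ⟨x, hx, he⟩ => ⟨x, h hx, he⟩

theorem nsub_empty (k : ℕ) : nsub (∅ : Set G) k = ⊥ := by
  rw [nsub, AddSubgroup.closure_eq_bot_iff]
  rintro _ ⟨x, hx, -⟩
  exact absurd hx (Set.notMem_empty x)

theorem lie_gen_mem_nsub {X : Set G} {k : ℕ} {x : G} (hx : x ∈ gen X) {v : Gr G}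
    (hv : v ∈ lay G (k - 1)) : ⁅el 0 x, v⁆ ∈ nsub X k := by
  let S : Subgroup G :=
    { carrier := {t | ⁅el 0 t, v⁆ ∈ nsub X k}
      one_mem' := by
        show ⁅el 0 (1 : G), v⁆ ∈ nsub X k
        rw [el_one, zero_lie]
        exact zero_mem _
      mul_mem' := fun {a c} ha hc => by
        show ⁅el 0 (a * c), v⁆ ∈ nsub X k
        rw [el_zero_mul, add_lie]
        exact add_mem ha hc
      inv_mem' := fun {a} ha => by
        show ⁅el 0 a⁻¹, v⁆ ∈ nsub X k
        rw [el_inv (mem_gam_zero a), neg_lie]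
        exact neg_mem ha }
  have h : gen X ≤ S := by
    refine sup_le ((Subgroup.closure_le _).2 fun t ht => ?_) fun t ht => ?_
    · obtain ⟨y, hy, rfl⟩ := hv
      exact AddSubgroup.subset_closure ⟨t, ht, y, hy, rfl⟩
    · show ⁅el 0 t, v⁆ ∈ nsub X k
      rw [el_zero_of_mem ht, zero_lie]
      exact zero_mem _
  exact h hx

/-- A left normed word in `X`, applied to an element. -/
def gword : List G → G → G
  | [], a => a
  | x :: w, a => ⁅x, gword w a⁆

theorem gword_mem (w : List G) (a : G) : gword w a ∈ gam G w.length := by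
  induction w with
  | nil => exact mem_gam_zero a
  | cons x w ih =>
    have h := comm_mem (mem_gam_zero x) ih
    rwa [Nat.zero_add] at h

/-- A word in `X`, applied in the Lie ring. -/
noncomputable def wd : List G → Gr G → Gr G
  | [], v => v
  | x :: w, v => ⁅el 0 x, wd w v⁆

theorem wd_gword (w : List G) (a : G) : wd w (el 0 a) = el w.length (gword w a) := by
  induction w with
  | nil => rfl
  | cons x w ih =>
    show ⁅el 0 x, wd w (el 0 a)⁆ = el (w.length + 1) ⁅x, gword w a⁆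
    rw [ih, lie_el_el (mem_gam_zero x) (gword_mem w a), Nat.zero_add]

theorem wd_add (w : List G) (u v : Gr G) : wd w (u + v) = wd w u + wd w v := by
  induction w with
  | nil => rfl
  | cons x w ih =>
    show ⁅el 0 x, wd w (u + v)⁆ = ⁅el 0 x, wd w u⁆ + ⁅el 0 x, wd w v⁆
    rw [ih, lie_add]

/-- The words on `X` as an additive map. -/
noncomputable def wdHom (w : List G) : Gr G →+ Gr G := AddMonoidHom.mk' (wd w) (wd_add w)

theorem wd_append (w w' : List G) (v : Gr G) : wd (w ++ w') v = wd w (wd w' v) := by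
  induction w with
  | nil => rfl
  | cons x w ih =>
    show ⁅el 0 x, wd (w ++ w') v⁆ = _
    rw [ih]
    rfl

theorem wd_mem_lay {i : ℕ} {v : Gr G} (hv : v ∈ lay G i) (w : List G) :
    wd w v ∈ lay G (i + w.length) := by
  induction w with
  | nil => exact hv
  | cons x w ih =>
    exact lie_mem_lay (el_mem_lay (mem_gam_zero x)) ih (by simp only [List.length_cons]; omega)

/-- Moving a word from the second argument to the first, modulo `nsub X`. -/
theorem lie_wd_iff {X : Set G} {S : AddSubgroup (Gr G)} {k : ℕ} (hS : nsub X k ≤ S)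
    (w : List G) (hw : ∀ x ∈ w, x ∈ X) :
    ∀ {i l : ℕ} {z y : Gr G}, z ∈ lay G i → y ∈ lay G l → i + l + w.length + 1 = k →
      (⁅z, wd w y⁆ ∈ S ↔ ⁅wd w.reverse z, y⁆ ∈ S) := by
  induction w with
  | nil => intros; exact Iff.rfl
  | cons x w ih =>
    intro i l z y hz hy hk
    have hx0 : el 0 x ∈ lay G 0 := el_mem_lay (mem_gam_zero x)
    have ht : wd w y ∈ lay G (l + w.length) := wd_mem_lay hy w
    have hN : ⁅el 0 x, ⁅z, wd w y⁆⁆ ∈ S :=
      hS (lie_gen_mem_nsub (subset_gen (hw x (by simp)))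
        (lie_mem_lay hz ht (by simp only [List.length_cons] at hk; omega)))
    have hstep : ⁅z, wd (x :: w) y⁆ ∈ S ↔ ⁅⁅el 0 x, z⁆, wd w y⁆ ∈ S := by
      show ⁅z, ⁅el 0 x, wd w y⁆⁆ ∈ S ↔ _
      rw [leibniz_lie z (el 0 x) (wd w y), AddSubgroup.add_mem_cancel_right _ hN,
        ← lie_skew z (el 0 x), neg_lie, neg_mem_iff]
    rw [hstep, ih (fun t ht => hw t (List.mem_cons_of_mem _ ht))
      (lie_mem_lay hx0 hz rfl) hy (by simp only [List.length_cons] at hk; omega),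
      List.reverse_cons, wd_append]
    exact Iff.rfl

/-- The forms attached to words are symmetric up to reversal. -/
theorem form_symm {X : Set G} {S : AddSubgroup (Gr G)} {k : ℕ} (hS : nsub X k ≤ S)
    {w : List G} (hw : ∀ x ∈ w, x ∈ X) (hl : w.length + 1 = k) (u v : G) :
    ⁅el 0 u, wd w (el 0 v)⁆ ∈ S ↔ ⁅el 0 v, wd w.reverse (el 0 u)⁆ ∈ S := by
  rw [lie_wd_iff hS w hw (el_mem_lay (mem_gam_zero u)) (el_mem_lay (mem_gam_zero v)) (by omega),
    ← lie_skew, neg_mem_iff]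

/-- If the components below `k` are generated by `ad X`, they are spanned by words. -/
theorem lay_le_words {X : Set G} : ∀ j : ℕ,
    (∀ i, 1 ≤ i → i ≤ j → lay G i ≤ nsub X i) →
    lay G j ≤ AddSubgroup.closure
      {e | ∃ w : List G, (∀ x ∈ w, x ∈ X) ∧ w.length = j ∧ ∃ a, e = wd w (el 0 a)} := by
  intro j
  induction j with
  | zero =>
    intro _
    rintro _ ⟨g, -, rfl⟩
    exact AddSubgroup.subset_closure ⟨[], by simp, rfl, g, rfl⟩
  | succ j ih =>
    intro h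
    refine (h (j + 1) (by omega) le_rfl).trans ((AddSubgroup.closure_le _).2 ?_)
    rintro _ ⟨x, hx, y, hy, rfl⟩
    rw [show j + 1 - 1 = j by omega] at hy ⊢
    let T : AddSubgroup (Gr G) := AddSubgroup.closure
      {e | ∃ w : List G, (∀ x ∈ w, x ∈ X) ∧ w.length = j + 1 ∧ ∃ a, e = wd w (el 0 a)}
    have hmap : lay G j ≤ T.comap (br G (el 0 x)) := by
      refine (ih fun i h1 h2 => h i h1 (by omega)).trans ((AddSubgroup.closure_le _).2 ?_)
      rintro _ ⟨w, hw, hl, a, rfl⟩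
      refine AddSubgroup.mem_comap.2 (AddSubgroup.subset_closure
        ⟨x :: w, List.forall_mem_cons.2 ⟨hx, hw⟩, by simp [hl], a, rfl⟩)
    exact hmap (el_mem_lay hy)

/-- Each component is spanned by brackets with the first one. -/
theorem lay_le_brackets {k : ℕ} (hk : 1 ≤ k) : lay G k ≤ AddSubgroup.closure
    {e | ∃ z : G, ∃ v, v ∈ lay G (k - 1) ∧ e = ⁅el 0 z, v⁆} := by
  obtain ⟨j, rfl⟩ : ∃ j, k = j + 1 := ⟨k - 1, by omega⟩
  rintro _ ⟨g, hg, rfl⟩
  rw [show j + 1 - 1 = j by omega]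
  set T := AddSubgroup.closure {e | ∃ z : G, ∃ v, v ∈ lay G j ∧ e = ⁅el 0 z, v⁆}
  have key : g ∈ gam G (j + 1) ∧ el (j + 1) g ∈ T := by
    have hg' : g ∈ ⁅gam G j, (⊤ : Subgroup G)⁆ := gam_succ (G := G) j ▸ hg
    rw [Subgroup.commutator_def] at hg'
    clear hg
    induction hg' using Subgroup.closure_induction with
    | mem t ht =>
      obtain ⟨a, ha, c, -, rfl⟩ := ht
      refine ⟨?_, ?_⟩
      · rw [gam_succ]
        exact Subgroup.commutator_mem_commutator ha (Subgroup.mem_top c)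
      have e : el (j + 1) ⁅a, c⁆ = -⁅el 0 c, el j a⁆ := by
        rw [lie_skew, lie_el_el ha (mem_gam_zero c), Nat.add_zero]
      rw [e]
      exact neg_mem (AddSubgroup.subset_closure ⟨c, el j a, el_mem_lay ha, rfl⟩)
    | one => exact ⟨one_mem _, by rw [el_one]; exact zero_mem _⟩
    | mul a c _ _ ha hc =>
      exact ⟨mul_mem ha.1 hc.1, by rw [el_mul ha.1 hc.1]; exact add_mem ha.2 hc.2⟩
    | inv a _ ha => exact ⟨inv_mem ha.1, by rw [el_inv ha.1]; exact neg_mem ha.2⟩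
  exact key.2

end CfsgLib.Breadth
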