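import Mathlib
import Cfsg.Agent.Lib.Breadth.Basic

/-!
# Vaughan-Lee's theorem on the breadth of a `p`-group

If every class of the finite `p`-group `G` has at most `p ^ b` elements, then the derived
subgroup has order at most `p ^ (b * (b + 1) / 2)`.

The proof builds a set `X` of elements one at a time, in the lowest degree in which the images
of `ad x`, `x ∈ X`, do not yet give the whole component. The elements outside a maximal
subgroup keep `m` independent witnesses inside these images, where `m` counts the steps; a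
representative may be translated by deep elements to gain the missing witness.
-/

set_option autoImplicit false
set_option linter.unusedSectionVars false

namespace CfsgLib.Breadth

open CfsgLib.Higman
open scoped commutatorElement

theorem addCard_sup_mul_inf {A : Type*} [AddCommGroup A] (H K : AddSubgroup A) :
    Nat.card ↥(H ⊔ K) * Nat.card ↥(H ⊓ K) = Nat.card H * Nat.card K := by
  have h1 := AddSubgroup.relIndex_mul_relIndex _ _ _ (bot_le (a := K)) (le_sup_right (a := H))
  rw [AddSubgroup.relIndex_bot_left, AddSubgroup.relIndex_bot_left,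
    AddSubgroup.relIndex_sup_right] at h1
  have h2 := AddSubgroup.relIndex_mul_relIndex _ _ _ (bot_le (a := H ⊓ K)) (inf_le_left (b := K))
  rw [AddSubgroup.relIndex_bot_left, AddSubgroup.relIndex_bot_left, inf_comm H K,
    AddSubgroup.inf_relIndex_right] at h2
  rw [← h1, ← h2, inf_comm H K]
  ring

variable {G : Type*} [Group G]

theorem el_pow {k : ℕ} {g : G} (hg : g ∈ gam G k) (n : ℕ) : el k (g ^ n) = n • el k g := by
  induction n with
  | zero => rw [pow_zero, el_one, zero_smul]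
  | succ n ih => rw [pow_succ, el_mul (pow_mem hg n) hg, ih, succ_nsmul]

/-- `el k` on the `k`-th term. -/
noncomputable def elHom (G : Type*) [Group G] (k : ℕ) : gam G k →* Multiplicative (Gr G) where
  toFun g := Multiplicative.ofAdd (el k (g : G))
  map_one' := by simp [el_one]
  map_mul' a c := by rw [Subgroup.coe_mul, el_mul a.2 c.2, ofAdd_add]

theorem elHom_ker (k : ℕ) : (elHom G k).ker = (gam G (k + 1)).subgroupOf (gam G k) := by
  ext g
  rw [MonoidHom.mem_ker, Subgroup.mem_subgroupOf]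
  show Multiplicative.ofAdd (el k (g : G)) = 1 ↔ _
  rw [ofAdd_eq_one, el_eq_zero_iff g.2]

theorem card_lay (k : ℕ) : Nat.card (lay G k) = (gam G (k + 1)).relIndex (gam G k) := by
  rw [Subgroup.relIndex, ← elHom_ker, Subgroup.index_ker]
  refine Nat.card_congr (Equiv.subtypeEquiv Multiplicative.ofAdd fun e => ?_)
  constructor
  · rintro ⟨g, hg, rfl⟩
    exact ⟨⟨g, hg⟩, rfl⟩
  · rintro ⟨g, hg⟩
    exact ⟨g, g.2, Multiplicative.ofAdd.injective hg⟩

theorem cmap_ker (g : G) (k : ℕ) : (cmap g k).ker = (cpre g (k + 1)).subgroupOf (cpre g k) := by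
  ext h
  rw [MonoidHom.mem_ker, Subgroup.mem_subgroupOf]
  show Multiplicative.ofAdd (el k ⁅g, (h : G)⁆) = 1 ↔ _
  rw [ofAdd_eq_one, el_eq_zero_iff h.2]
  exact Iff.rfl

theorem card_cset_top (g : G) (k : ℕ) :
    Nat.card (cset (⊤ : Subgroup G) g k) = (cpre g (k + 1)).relIndex (cpre g k) := by
  rw [Subgroup.relIndex, ← cmap_ker, Subgroup.index_ker]
  refine Nat.card_congr (Equiv.subtypeEquiv Multiplicative.ofAdd fun e => ?_)
  constructor
  · rintro ⟨h, hh, rfl⟩
    exact ⟨⟨h, hh.2⟩, rfl⟩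
  · rintro ⟨h, hh⟩
    exact ⟨h, ⟨trivial, h.2⟩, Multiplicative.ofAdd.injective hh⟩

theorem prod_card_cset_top (g : G) (n : ℕ) :
    ∏ j ∈ Finset.Icc 1 n, Nat.card (cset (⊤ : Subgroup G) g j) = (cpre g (n + 1)).index := by
  induction n with
  | zero => simp [cpre_one]
  | succ n ih =>
    rw [Finset.prod_Icc_succ_top (by omega), ih, card_cset_top, mul_comm]
    exact Subgroup.relIndex_mul_index (cpre_anti g (by omega))

theorem prod_card_lay (n : ℕ) :
    ∏ j ∈ Finset.Icc 1 n, Nat.card (lay G j) = (gam G (n + 1)).relIndex (gam G 1) := by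
  induction n with
  | zero => simp
  | succ n ih =>
    rw [Finset.prod_Icc_succ_top (by omega), ih, card_lay, mul_comm]
    exact Subgroup.relIndex_mul_relIndex _ _ _ (gam_anti (by omega)) (gam_anti (by omega))

section Finite

variable [Finite G] {p : ℕ} [Fact p.Prime]

theorem prod_card_cset_le {b : ℕ}
    (hb : ∀ x : G, (Subgroup.centralizer ({x} : Set G)).index ≤ p ^ b) (g : G) (n : ℕ) :
    ∏ j ∈ Finset.Icc 1 n, Nat.card (cset (⊤ : Subgroup G) g j) ≤ p ^ b := by
  rw [prod_card_cset_top]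
  refine le_trans (Nat.le_of_dvd (Nat.pos_of_ne_zero Subgroup.index_ne_zero_of_finite)
    (Subgroup.index_dvd_of_le fun h hh => ?_)) (hb g)
  have h0 : ⁅g, h⁆ = 1 := commutatorElement_eq_one_iff_mul_comm.2
    (Subgroup.mem_centralizer_iff.1 hh g rfl)
  rw [mem_cpre, h0]
  exact one_mem _

theorem finite_of_le_lay {k : ℕ} {D : AddSubgroup (Gr G)} (hD : D ≤ lay G k) : Finite D := by
  have := finite_lay (G := G) k
  exact Finite.of_injective _ (AddSubgroup.inclusion_injective hD)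

theorem card_pos_of_le_lay {k : ℕ} {D : AddSubgroup (Gr G)} (hD : D ≤ lay G k) :
    0 < Nat.card D := by
  have := finite_of_le_lay hD
  exact Nat.card_pos

theorem card_mono_lay {k : ℕ} {D D' : AddSubgroup (Gr G)} (h : D ≤ D') (hD : D' ≤ lay G k) :
    Nat.card D ≤ Nat.card D' :=
  Nat.le_of_dvd (card_pos_of_le_lay hD) (AddSubgroup.card_dvd_of_le h)

variable (hG : IsPGroup p G)
include hG

theorem exists_card_eq {k : ℕ} {D : AddSubgroup (Gr G)} (hD : D ≤ lay G k) :
    ∃ i, Nat.card D = p ^ i := by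
  obtain ⟨e, he⟩ := (IsPGroup.iff_card.1 (hG.to_subgroup (gam G k)))
  have h1 : Nat.card (lay G k) ∣ p ^ e := by
    rw [← he, card_lay]
    exact (gam G (k + 1)).subgroupOf (gam G k) |>.index_dvd_card
  obtain ⟨i, -, hi⟩ := (Nat.dvd_prime_pow Fact.out).1 ((AddSubgroup.card_dvd_of_le hD).trans h1)
  exact ⟨i, hi⟩

theorem mul_card_le {k : ℕ} {D D' : AddSubgroup (Gr G)} (h : D < D') (hD : D' ≤ lay G k) :
    p * Nat.card D ≤ Nat.card D' := by
  obtain ⟨i, hi⟩ := exists_card_eq hG (h.le.trans hD)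
  obtain ⟨i', hi'⟩ := exists_card_eq hG hD
  have hp1 := (Fact.out : p.Prime).one_lt
  have hlt : Nat.card D < Nat.card D' := by
    refine lt_of_le_of_ne (card_mono_lay h.le hD) fun he => h.ne ?_
    have := finite_of_le_lay hD
    exact AddSubgroup.eq_of_le_of_card_ge h.le he.ge
  rw [hi, hi'] at hlt ⊢
  rw [← pow_succ']
  exact Nat.pow_le_pow_right hp1.le ((Nat.pow_lt_pow_iff_right hp1).1 hlt)

/-- A component equal to a subgroup modulo multiples of `p` is contained in it. -/
theorem lay_le_of_le_sup_smul {k : ℕ} {T : AddSubgroup (Gr G)}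
    (h : lay G k ≤ T ⊔ (lay G k).map (nsmulAddMonoidHom p)) : lay G k ≤ T := by
  obtain ⟨e, he⟩ := exists_card_eq hG (le_refl (lay G k))
  have hi : ∀ i : ℕ, ∀ v ∈ lay G k, ∃ t ∈ T, ∃ r ∈ lay G k, v = t + p ^ i • r := by
    intro i
    induction i with
    | zero => exact fun v hv => ⟨0, zero_mem _, v, hv, by simp⟩
    | succ i ih =>
      intro v hv
      obtain ⟨t, ht, r, hr, rfl⟩ := ih v hv
      obtain ⟨t', ht', r', hr', hsum⟩ := AddSubgroup.mem_sup.1 (h hr)
      obtain ⟨s, hs, rfl⟩ := hr'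
      refine ⟨t + p ^ i • t', add_mem ht (AddSubgroup.nsmul_mem _ ht' _), s, hs, ?_⟩
      rw [← hsum, nsmulAddMonoidHom_apply, smul_add, pow_succ, mul_smul, add_assoc]
  intro v hv
  obtain ⟨t, ht, r, hr, rfl⟩ := hi e v hv
  have h0 : p ^ e • r = 0 := by
    have := finite_lay (G := G) k
    have h1 : Nat.card (lay G k) • (⟨r, hr⟩ : lay G k) = 0 := card_nsmul_eq_zero'
    rw [he] at h1
    exact congrArg Subtype.val h1
  rwa [h0, add_zero]

omit hG

variable (p)

/-- `nsub` together with the multiples of `p`. -/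
noncomputable def msub (X : Set G) (k : ℕ) : AddSubgroup (Gr G) :=
  nsub X k ⊔ (lay G k).map (nsmulAddMonoidHom p)

/-- The elements all of whose forms with `a` vanish. -/
noncomputable def uset (X : Set G) (k : ℕ) (a : G) : Subgroup G where
  carrier := {z | ∀ w : List G, (∀ x ∈ w, x ∈ X) → w.length + 1 = k →
    ⁅el 0 z, wd w (el 0 a)⁆ ∈ msub p X k}
  one_mem' := fun w _ _ => by
    rw [el_one, zero_lie]
    exact zero_mem _
  mul_mem' := fun {c d} hc hd w hw hl => by
    rw [el_zero_mul, add_lie]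
    exact add_mem (hc w hw hl) (hd w hw hl)
  inv_mem' := fun {c} hc w hw hl => by
    rw [el_inv (mem_gam_zero c), neg_lie]
    exact neg_mem (hc w hw hl)

variable {p}

theorem nsub_le_msub (X : Set G) (k : ℕ) : nsub X k ≤ msub p X k := le_sup_left

theorem smul_mem_msub {X : Set G} {k : ℕ} {v : Gr G} (hv : v ∈ lay G k) :
    p • v ∈ msub p X k := AddSubgroup.mem_sup_right ⟨v, hv, rfl⟩

theorem mem_uset {X : Set G} {k : ℕ} {a z : G} : z ∈ uset p X k a ↔
    ∀ w : List G, (∀ x ∈ w, x ∈ X) → w.length + 1 = k →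
      ⁅el 0 z, wd w (el 0 a)⁆ ∈ msub p X k := Iff.rfl

theorem form_mem_lay {k : ℕ} {w : List G} (hl : w.length + 1 = k) (u v : G) :
    ⁅el 0 u, wd w (el 0 v)⁆ ∈ lay G k :=
  lie_mem_lay (el_mem_lay (mem_gam_zero u)) (wd_mem_lay (el_mem_lay (mem_gam_zero v)) w)
    (by omega)

theorem wd_el_mem_lay {k : ℕ} {w : List G} (hl : w.length + 1 = k) (v : G) :
    wd w (el 0 v) ∈ lay G (k - 1) := by
  have h := wd_mem_lay (el_mem_lay (mem_gam_zero v)) w
  rwa [show 0 + w.length = k - 1 by omega] at h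

theorem gen_le_uset (X : Set G) (k : ℕ) (a : G) : gen X ≤ uset p X k a := fun _ hx _ _ hl =>
  nsub_le_msub X k (lie_gen_mem_nsub hx (wd_el_mem_lay hl a))

theorem uset_normal (X : Set G) (k : ℕ) (a : G) : (uset p X k a).Normal := by
  refine ⟨fun n hn g => ?_⟩
  rw [show g * n * g⁻¹ = ⁅g, n⁆ * n by simp [commutatorElement_def, mul_assoc]]
  exact mul_mem (gen_le_uset X k a (gam_one_le_gen X (comm_mem_one g n))) hn

theorem form_mem_insert {X : Set G} {k : ℕ} {w : List G} (hw : ∀ x ∈ w, x ∈ X)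
    (hl : w.length + 1 = k) (g a : G) :
    ⁅el 0 g, wd w (el 0 a)⁆ ∈ nsub (insert a X) k := by
  rw [form_symm le_rfl (fun x hx => Set.mem_insert_of_mem a (hw x hx)) hl]
  exact lie_gen_mem_nsub (subset_gen (Set.mem_insert a X))
    (wd_el_mem_lay (by rw [List.length_reverse]; exact hl) g)

/-- The number of witnesses of `g` up to degree `k`. -/
noncomputable def cnt (X : Set G) (k : ℕ) (g : G) : ℕ :=
  ∏ j ∈ Finset.Icc 1 k, Nat.card ↥(cset (gen X) g j ⊓ nsub X j)

variable (p)

/-- The elements whose translations keep at least `m` witnesses. -/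
def Wit (X : Set G) (k m : ℕ) (g : G) : Prop :=
  ∀ v ∈ gamp G k, ∃ u ∈ gamp G k, (∀ h, el k ⁅u, h⁆ ∈ nsub X k) ∧ p ^ m ≤ cnt X k (g * v * u)

variable {p}

include hG

theorem cnt_succ_le {X : Set G} {k m : ℕ} {a g : G} (h : p ^ m ≤ cnt X k g) {j : ℕ}
    (hj : j ∈ Finset.Icc 1 k) {e : Gr G}
    (he : e ∈ cset (gen (insert a X)) g j) (he' : e ∈ nsub (insert a X) j)
    (hne : ¬ (e ∈ cset (gen X) g j ∧ e ∈ nsub X j)) :
    p ^ (m + 1) ≤ cnt (insert a X) k g := by
  have hmono : ∀ i : ℕ, cset (gen X) g i ⊓ nsub X i ≤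
      cset (gen (insert a X)) g i ⊓ nsub (insert a X) i := fun i =>
    inf_le_inf (cset_mono (gen_mono (Set.subset_insert a X)) g i)
      (nsub_mono (Set.subset_insert a X) i)
  have hlt : cset (gen X) g j ⊓ nsub X j < cset (gen (insert a X)) g j ⊓ nsub (insert a X) j :=
    lt_of_le_of_ne (hmono j) fun heq => hne (by
      have hmem : e ∈ cset (gen X) g j ⊓ nsub X j := heq ▸ ⟨he, he'⟩
      exact hmem)
  have h1 := mul_card_le hG hlt (inf_le_left.trans (cset_le_lay _ g j))
  rw [cnt, ← Finset.mul_prod_erase _ _ hj] at h ⊢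
  calc p ^ (m + 1) = p * p ^ m := pow_succ' p m
    _ ≤ p * (Nat.card ↥(cset (gen X) g j ⊓ nsub X j) *
        ∏ i ∈ (Finset.Icc 1 k).erase j, Nat.card ↥(cset (gen X) g i ⊓ nsub X i)) :=
      Nat.mul_le_mul_left p h
    _ ≤ _ := by
      rw [← mul_assoc]
      exact Nat.mul_le_mul h1 (Finset.prod_le_prod' fun i _ =>
        card_mono_lay (hmono i) (inf_le_left.trans (cset_le_lay _ g i)))

/-- A nonzero form gives a new witness. -/
theorem wit_of_form {X : Set G} {k m : ℕ} (hk : 1 ≤ k) {a g : G} (hg : Wit p X k m g)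
    {w : List G} (hw : ∀ x ∈ w, x ∈ X) (hl : w.length + 1 = k)
    (hne : ⁅el 0 g, wd w (el 0 a)⁆ ∉ nsub X k) :
    Wit p (insert a X) k (m + 1) g := by
  intro v hv
  obtain ⟨u, hu, huN, hC⟩ := hg v hv
  refine ⟨u, hu, fun h => nsub_mono (Set.subset_insert a X) k (huN h), ?_⟩
  have hwl : w.length = k - 1 := by omega
  have hy : gword w a ∈ gam G (k - 1) := hwl ▸ gword_mem w a
  have hval : el k ⁅g * v * u, gword w a⁆ = ⁅el 0 g, wd w (el 0 a)⁆ := by
    rw [wd_gword, hwl, ← lie_el_zero hk _ hy, el_zero_mul, el_zero_mul,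
      el_zero_of_mem (gamp_le_one k hv), el_zero_of_mem (gamp_le_one k hu), add_zero, add_zero]
  have hmem : gword w a ∈ gen (insert a X) := by
    cases w with
    | nil => exact subset_gen (Set.mem_insert a X)
    | cons x w => exact gam_one_le_gen _ (comm_mem_one _ _)
  refine cnt_succ_le hG hC (Finset.mem_Icc.2 ⟨hk, le_rfl⟩)
    (mem_cset.2 ⟨_, hmem, comm_mem_pred hk _ hy, hval⟩) (form_mem_insert hw hl g a) ?_
  exact fun hh => hne hh.2

/-- In the degenerate situation the component is spanned by two images. -/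
theorem lay_le_two_images {X : Set G} {k : ℕ}
    (hlow : ∀ j, 1 ≤ j → j < k → lay G j ≤ nsub X j) (hk : 1 ≤ k) {H : Subgroup G}
    (hH : IsCoatom H) (hHn : H.Normal)
    (hcase : ∀ c, c ∉ H → uset p X k c = ⊤ ∨ uset p X k c ⊔ Subgroup.zpowers c = ⊤)
    {a z : G} (ha : a ∉ H) (haU : uset p X k a ≠ ⊤) (hz : z ∉ H) (hzU : z ∈ uset p X k a) :
    lay G k ≤ nsub (insert a X) k ⊔ (lay G (k - 1)).map (br G (el 0 z)) := by
  set S := nsub (insert a X) k ⊔ (lay G (k - 1)).map (br G (el 0 z)) with hSdef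
  refine lay_le_of_le_sup_smul hG ?_
  set S' := msub p X k ⊔ S with hS'def
  have hS' : S' ≤ S ⊔ (lay G k).map (nsmulAddMonoidHom p) :=
    sup_le (sup_le_sup_right ((nsub_mono (Set.subset_insert a X) k).trans le_sup_left) _)
      le_sup_left
  refine le_trans ?_ hS'
  have hMS : msub p X k ≤ S' := le_sup_left
  have hNS : nsub X k ≤ S' := (nsub_le_msub X k).trans hMS
  have hrev : ∀ {w : List G}, (∀ x ∈ w, x ∈ X) → ∀ x ∈ w.reverse, x ∈ X :=
    fun hw x hx => hw x (List.mem_reverse.1 hx)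
  have hrl : ∀ {w : List G}, w.length + 1 = k → w.reverse.length + 1 = k :=
    fun hl => by rw [List.length_reverse]; exact hl
  have hFadd : ∀ (w : List G) (u c d : G), ⁅el 0 u, wd w (el 0 (c * d))⁆ =
      ⁅el 0 u, wd w (el 0 c)⁆ + ⁅el 0 u, wd w (el 0 d)⁆ := fun w u c d => by
    rw [el_zero_mul, wd_add, lie_add]
  have hFz : ∀ (w : List G) (u c : G) (i : ℤ), ⁅el 0 u, wd w (el 0 (c ^ i))⁆ =
      i • ⁅el 0 u, wd w (el 0 c)⁆ := fun w u c i => by
    rw [el_zero_zpow, show wd w (i • el 0 c) = i • wd w (el 0 c) from map_zsmul (wdHom w) i _,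
      lie_zsmul]
  have hGz : ∀ (w : List G) (u d v : G) (i : ℤ), ⁅el 0 (u * d ^ i), wd w (el 0 v)⁆ =
      ⁅el 0 u, wd w (el 0 v)⁆ + i • ⁅el 0 d, wd w (el 0 v)⁆ := fun w u d v i => by
    rw [el_zero_mul, el_zero_zpow, add_lie, zsmul_lie]
  have hA : ∀ {w : List G}, (∀ x ∈ w, x ∈ X) → w.length + 1 = k → ∀ u : G,
      ⁅el 0 u, wd w (el 0 a)⁆ ∈ S' := fun hw hl u =>
    AddSubgroup.mem_sup_right (AddSubgroup.mem_sup_left (form_mem_insert hw hl u a))
  have hZl : ∀ {v : Gr G}, v ∈ lay G (k - 1) → ⁅el 0 z, v⁆ ∈ S' := fun {v} hv =>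
    AddSubgroup.mem_sup_right (AddSubgroup.mem_sup_right ⟨v, hv, rfl⟩)
  have hZ : ∀ {w : List G}, (∀ x ∈ w, x ∈ X) → w.length + 1 = k → ∀ u : G,
      ⁅el 0 u, wd w (el 0 z)⁆ ∈ S' := fun hw hl u => by
    rw [form_symm hNS hw hl]
    exact hZl (wd_el_mem_lay (hrl hl) u)
  have hUa : ∀ {w : List G}, (∀ x ∈ w, x ∈ X) → w.length + 1 = k → ∀ {h : G},
      h ∈ uset p X k a → ⁅el 0 a, wd w (el 0 h)⁆ ∈ msub p X k := fun {w} hw hl {h} hh => by
    rw [form_symm (nsub_le_msub X k) hw hl]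
    exact hh _ (hrev hw) (hrl hl)
  have htop : uset p X k a ⊔ Subgroup.zpowers a = ⊤ := (hcase a ha).resolve_left haU
  have hUn := uset_normal (p := p) X k a
  have decA : ∀ c : G, ∃ c0 ∈ uset p X k a, ∃ i : ℤ, c = c0 * a ^ i := by
    intro c
    obtain ⟨c0, hc0, d, hd, hcd⟩ := Subgroup.mem_sup_of_normal_left.1
      (htop ▸ Subgroup.mem_top c : c ∈ uset p X k a ⊔ Subgroup.zpowers a)
    obtain ⟨i, rfl⟩ := Subgroup.mem_zpowers_iff.1 hd
    exact ⟨c0, hc0, i, hcd.symm⟩
  have hHz : H ⊔ Subgroup.zpowers z = ⊤ :=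
    hH.2 _ (left_lt_sup.2 fun hle => hz (hle (Subgroup.mem_zpowers z)))
  have decZ : ∀ c ∈ uset p X k a, ∃ c0, c0 ∈ uset p X k a ∧ c0 ∈ H ∧
      ∃ i : ℤ, c = c0 * z ^ i := by
    intro c hc
    obtain ⟨c0, hc0, d, hd, hcd⟩ := Subgroup.mem_sup_of_normal_left.1
      (hHz ▸ Subgroup.mem_top c : c ∈ H ⊔ Subgroup.zpowers z)
    obtain ⟨i, rfl⟩ := Subgroup.mem_zpowers_iff.1 hd
    refine ⟨c0, ?_, hc0, i, hcd.symm⟩
    rw [eq_mul_inv_of_mul_eq hcd]
    exact mul_mem hc (inv_mem (zpow_mem hzU i))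
  have key : ∀ h, h ∈ uset p X k a → h ∈ H → ∀ h', h' ∈ uset p X k a → h' ∈ H →
      ∀ w : List G, (∀ x ∈ w, x ∈ X) → w.length + 1 = k →
        ⁅el 0 h', wd w (el 0 h)⁆ ∈ S' := by
    intro h hhU hhH h' hh'U _ w hw hl
    obtain ⟨w0, hw0, hl0, hc0⟩ : ∃ w0 : List G, (∀ x ∈ w0, x ∈ X) ∧ w0.length + 1 = k ∧
        ⁅el 0 a, wd w0 (el 0 a)⁆ ∉ msub p X k := by
      by_contra hcon
      push Not at hcon
      refine haU (eq_top_iff.2 fun c _ => ?_)
      obtain ⟨c0, hc0, i, rfl⟩ := decA c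
      exact mul_mem hc0 (zpow_mem (mem_uset.2 hcon) i)
    set a' := a * h with ha'
    have ha'H : a' ∉ H := fun hh => ha ((Subgroup.mul_mem_cancel_right H hhH).1 hh)
    have hne : a ∉ uset p X k a' := fun hh => hc0 (by
      have h1 := hh w0 hw0 hl0
      rw [ha', hFadd] at h1
      exact (AddSubgroup.add_mem_cancel_right _ (hUa hw0 hl0 hhU)).1 h1)
    have htop' : uset p X k a' ⊔ Subgroup.zpowers a' = ⊤ :=
      (hcase a' ha'H).resolve_left fun hh => hne (hh ▸ Subgroup.mem_top a)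
    have hUn' := uset_normal (p := p) X k a'
    have dec' : ∀ c : G, ∃ c0 ∈ uset p X k a', ∃ i : ℤ, c = c0 * a' ^ i := by
      intro c
      obtain ⟨c0, hc0, d, hd, hcd⟩ := Subgroup.mem_sup_of_normal_left.1
        (htop' ▸ Subgroup.mem_top c : c ∈ uset p X k a' ⊔ Subgroup.zpowers a')
      obtain ⟨i, rfl⟩ := Subgroup.mem_zpowers_iff.1 hd
      exact ⟨c0, hc0, i, hcd.symm⟩
    obtain ⟨u1, hu1, m1, h1⟩ := dec' a
    obtain ⟨u2, hu2, m2, h2⟩ := dec' h'
    have hd1 : ∀ w : List G, (∀ x ∈ w, x ∈ X) → w.length + 1 = k →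
        ⁅el 0 a, wd w (el 0 a)⁆ - m1 • ⁅el 0 a', wd w (el 0 a')⁆ ∈ msub p X k := by
      intro w hw hl
      have e1 : ⁅el 0 a, wd w (el 0 a')⁆ =
          ⁅el 0 u1, wd w (el 0 a')⁆ + m1 • ⁅el 0 a', wd w (el 0 a')⁆ := by
        conv_lhs => rw [h1]
        exact hGz w u1 a' a' m1
      have e2 : ⁅el 0 a, wd w (el 0 a')⁆ =
          ⁅el 0 a, wd w (el 0 a)⁆ + ⁅el 0 a, wd w (el 0 h)⁆ := hFadd w a a h
      have e3 : ⁅el 0 a, wd w (el 0 a)⁆ - m1 • ⁅el 0 a', wd w (el 0 a')⁆ =
          ⁅el 0 u1, wd w (el 0 a')⁆ - ⁅el 0 a, wd w (el 0 h)⁆ := by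
        rw [sub_eq_sub_iff_add_eq_add, ← e1, ← e2]
      rw [e3]
      exact sub_mem (hu1 w hw hl) (hUa hw hl hhU)
    have hdp : ∀ {w : List G}, w.length + 1 = k →
        (p : ℤ) • ⁅el 0 a', wd w (el 0 a')⁆ ∈ msub p X k := fun hl => by
      rw [natCast_zsmul]
      exact smul_mem_msub (form_mem_lay hl a' a')
    have hm1 : ¬ (p : ℤ) ∣ m1 := by
      rintro ⟨q, hq⟩
      apply hc0
      have hd := hd1 w0 hw0 hl0
      rw [hq, mul_comm, mul_smul] at hd
      have h3 := add_mem hd (AddSubgroup.zsmul_mem _ (hdp hl0) q)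
      rwa [sub_add_cancel] at h3
    obtain ⟨r, s, hrs⟩ := ((Nat.prime_iff_prime_int.1 Fact.out).coprime_iff_not_dvd.2 hm1)
    have hd : ⁅el 0 a', wd w (el 0 a')⁆ ∈ S' := by
      have hm : m1 • ⁅el 0 a', wd w (el 0 a')⁆ ∈ S' := by
        have h3 := sub_mem (hA hw hl a) (hMS (hd1 w hw hl))
        rwa [sub_sub_cancel] at h3
      have h4 := add_mem (AddSubgroup.zsmul_mem _ (hMS (hdp (w := w) hl)) r)
        (AddSubgroup.zsmul_mem _ hm s)
      rwa [smul_smul, smul_smul, ← add_smul, hrs, one_smul] at h4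
    have e4 : ⁅el 0 h', wd w (el 0 a')⁆ =
        ⁅el 0 u2, wd w (el 0 a')⁆ + m2 • ⁅el 0 a', wd w (el 0 a')⁆ := by
      conv_lhs => rw [h2]
      exact hGz w u2 a' a' m2
    have e5 : ⁅el 0 h', wd w (el 0 a')⁆ ∈ S' := by
      rw [e4]
      exact add_mem (hMS (hu2 w hw hl)) (AddSubgroup.zsmul_mem _ hd m2)
    rw [ha', hFadd] at e5
    exact (AddSubgroup.add_mem_cancel_left _ (hA hw hl h')).1 e5
  have all : ∀ w : List G, (∀ x ∈ w, x ∈ X) → w.length + 1 = k → ∀ u c : G,
      ⁅el 0 u, wd w (el 0 c)⁆ ∈ S' := by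
    intro w hw hl u c
    obtain ⟨c0, hc0, i, rfl⟩ := decA c
    obtain ⟨c1, hc1U, hc1H, j, rfl⟩ := decZ c0 hc0
    rw [hFadd, hFadd, hFz, hFz]
    refine add_mem (add_mem ?_ (AddSubgroup.zsmul_mem _ (hZ hw hl u) j))
      (AddSubgroup.zsmul_mem _ (hA hw hl u) i)
    obtain ⟨u0, hu0, i', rfl⟩ := decA u
    obtain ⟨u1, hu1U, hu1H, j', rfl⟩ := decZ u0 hu0
    rw [hGz, hGz]
    exact add_mem (add_mem (key c1 hc1U hc1H u1 hu1U hu1H w hw hl)
      (AddSubgroup.zsmul_mem _ (hZl (wd_el_mem_lay hl c1)) j'))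
      (AddSubgroup.zsmul_mem _ (hMS (hUa hw hl hc1U)) i')
  refine (lay_le_brackets hk).trans ((AddSubgroup.closure_le _).2 ?_)
  rintro _ ⟨u, v, hv, rfl⟩
  have hle : lay G (k - 1) ≤ S'.comap (br G (el 0 u)) := by
    refine (lay_le_words (X := X) (k - 1) fun i h1 h2 => hlow i h1 (by omega)).trans
      ((AddSubgroup.closure_le _).2 ?_)
    rintro _ ⟨w, hw, hl, c, rfl⟩
    exact AddSubgroup.mem_comap.2 (all w hw (by omega) u c)
  exact hle hv

/-- The translation step: a representative gains a witness although its forms with `a`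
vanish, when the component is spanned by the images of `a` and of the element. -/
theorem wit_of_translate {X : Set G} {k m : ℕ} (hk : 2 ≤ k)
    (hlow : ∀ j, 1 ≤ j → j < k → lay G j ≤ nsub X j) {a g : G}
    (haU : a ∉ uset p X k a)
    (hspan : lay G k ≤ nsub (insert a X) k ⊔ (lay G (k - 1)).map (br G (el 0 g)))
    (hg : Wit p X k m g) : Wit p (insert a X) k (m + 1) g := by
  have hk1 : 1 ≤ k := by omega
  have hsub : X ⊆ insert a X := Set.subset_insert a X
  intro v hv
  by_cases hlt : ∀ j, 1 ≤ j → j < k → cset (gen (insert a X)) (g * v) j ≤ cset (gen X) (g * v) j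
  swap
  · push Not at hlt
    obtain ⟨j, hj1, hjk, hj⟩ := hlt
    obtain ⟨e, he, hne⟩ := SetLike.not_le_iff_exists.1 hj
    obtain ⟨u, hu, huN, hC⟩ := hg v hv
    refine ⟨u, hu, fun h => nsub_mono hsub k (huN h), ?_⟩
    refine cnt_succ_le hG hC (Finset.mem_Icc.2 ⟨hj1, hjk.le⟩) (e := e) ?_
      (nsub_mono hsub j (hlow j hj1 hjk (cset_le_lay _ _ _ he))) ?_
    · rw [cset_mul_eq hjk _ _ hu]
      exact he
    · rw [cset_mul_eq hjk _ _ hu]
      exact fun hh => hne hh.1
  -- an element of the coset of `a` whose commutator with `g * v` is deep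
  have hchain : ∀ j, 1 ≤ j → j ≤ k → ∃ x ∈ gen X, ⁅g * v, a * x⁆ ∈ gam G j := by
    intro j hj1
    induction j, hj1 using Nat.le_induction with
    | base => exact fun _ => ⟨1, one_mem _, comm_mem_one _ _⟩
    | succ j hj ih =>
      intro hjk
      obtain ⟨x, hx, hxj⟩ := ih (by omega)
      have hx' : a * x ∈ gen (insert a X) :=
        mul_mem (subset_gen (Set.mem_insert a X)) (gen_mono hsub hx)
      obtain ⟨y, hy, hyj, hye⟩ := mem_cset.1 (hlt j hj (by omega)
        (mem_cset.2 ⟨_, hx', hxj, rfl⟩))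
      refine ⟨x * y⁻¹, mul_mem hx (inv_mem hy), ?_⟩
      have hxc : a * x ∈ cpre (g * v) j := hxj
      have hyc : y ∈ cpre (g * v) j := hyj
      rw [← mul_assoc, ← el_eq_zero_iff (mul_mem hxc (inv_mem hyc) : a * x * y⁻¹ ∈ cpre (g * v) j),
        el_comm_mul hxc (inv_mem hyc), el_comm_inv hyc, hye, add_neg_cancel]
  obtain ⟨x, hx, hxk⟩ := hchain k hk1 le_rfl
  have hg0 : el 0 (g * v) = el 0 g := by
    rw [el_zero_mul, el_zero_of_mem (gamp_le_one k hv), add_zero]
  obtain ⟨n', hn', _, ⟨_, ⟨s, hs, rfl⟩, rfl⟩, hsum⟩ := AddSubgroup.mem_sup.1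
    (hspan (el_mem_lay hxk))
  have hs1 : s ∈ gam G 1 := gam_anti (by omega) hs
  have hsc : s ∈ cpre (g * v) k := comm_mem_pred hk1 _ hs
  have hxc : a * x ∈ cpre (g * v) k := hxk
  set x2 := a * x * s⁻¹ with hx2def
  have hx2c : x2 ∈ cpre (g * v) k := mul_mem hxc (inv_mem hsc)
  have hx2e : el k ⁅g * v, x2⁆ = n' := by
    rw [hx2def, el_comm_mul hxc (inv_mem hsc), el_comm_inv hsc, ← hsum,
      ← lie_el_zero hk1 _ hs, hg0]
    show n' + ⁅el 0 g, el (k - 1) s⁆ + -⁅el 0 g, el (k - 1) s⁆ = n'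
    abel
  have hx2g : x2 ∈ gen (insert a X) :=
    mul_mem (mul_mem (subset_gen (Set.mem_insert a X)) (gen_mono hsub hx))
      (inv_mem (gam_one_le_gen _ hs1))
  have hx20 : el 0 x2 = el 0 a + el 0 x := by
    rw [hx2def, el_zero_mul, el_zero_mul, el_inv (mem_gam_zero s), el_zero_of_mem hs1, neg_zero,
      add_zero]
  obtain ⟨w0, hw0, hl0, hc0⟩ : ∃ w0 : List G, (∀ x ∈ w0, x ∈ X) ∧ w0.length + 1 = k ∧
      ⁅el 0 a, wd w0 (el 0 a)⁆ ∉ nsub X k := by
    by_contra hcon
    push Not at hcon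
    exact haU fun w hw hl => nsub_le_msub X k (hcon w hw hl)
  have hwl : w0.length = k - 1 := by omega
  set y := gword w0 a with hydef
  have hy : y ∈ gam G (k - 1) := hwl ▸ gword_mem w0 a
  have hyp : y ∈ gamp G k := gam_anti (by omega) hy
  have hyh : ∀ h : G, el k ⁅y, h⁆ = -⁅el 0 h, wd w0 (el 0 a)⁆ := by
    intro h
    rw [wd_gword, hwl, lie_el_zero hk1 h hy, ← el_inv (comm_mem_pred hk1 h hy),
      commutatorElement_inv]
  have hyN' : ∀ h : G, el k ⁅y, h⁆ ∈ nsub (insert a X) k := fun h => by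
    rw [hyh]
    exact neg_mem (form_mem_insert hw0 hl0 h a)
  have hy2 : el k ⁅y, x2⁆ ∉ nsub X k := by
    rw [hyh, hx20, add_lie, neg_mem_iff,
      AddSubgroup.add_mem_cancel_right _ (lie_gen_mem_nsub hx (wd_el_mem_lay hl0 a))]
    exact hc0
  obtain ⟨t, htp, htN, htne⟩ : ∃ t, t ∈ gamp G k ∧
      (∀ h, el k ⁅t, h⁆ ∈ nsub (insert a X) k) ∧ el k ⁅t, x2⁆ + n' ∉ nsub X k := by
    by_cases hn : n' ∈ nsub X k
    · refine ⟨y, hyp, hyN', ?_⟩
      rw [AddSubgroup.add_mem_cancel_right _ hn]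
      exact hy2
    · refine ⟨1, one_mem _, fun h => ?_, ?_⟩
      · rw [commutatorElement_one_left, el_one]
        exact zero_mem _
      · rwa [commutatorElement_one_left, el_one, zero_add]
  obtain ⟨u, hu, huN, hC⟩ := hg (v * t) (mul_mem hv htp)
  have htu : t * u ∈ gamp G k := mul_mem htp hu
  have htu' : ∀ h, el k ⁅t * u, h⁆ = el k ⁅u, h⁆ + el k ⁅t, h⁆ := fun h =>
    el_comm_mul_gamp le_rfl hu (gamp_comm_mem htp h)
  refine ⟨t * u, htu, fun h => ?_, ?_⟩
  · rw [htu']
    exact add_mem (nsub_mono hsub k (huN h)) (htN h)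
  rw [show g * v * (t * u) = g * (v * t) * u by simp [mul_assoc]]
  have hval : el k ⁅g * (v * t) * u, x2⁆ = el k ⁅u, x2⁆ + (el k ⁅t, x2⁆ + n') := by
    rw [show g * (v * t) * u = g * v * (t * u) by simp [mul_assoc],
      el_comm_mul_gamp le_rfl htu hx2c, htu', hx2e, add_assoc]
  have hmem : ⁅g * (v * t) * u, x2⁆ ∈ gam G k := by
    rw [show g * (v * t) * u = g * v * (t * u) by simp [mul_assoc]]
    exact (comm_mem_mul_iff le_rfl htu).2 hx2c
  refine cnt_succ_le hG hC (Finset.mem_Icc.2 ⟨hk1, le_rfl⟩)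
    (mem_cset.2 ⟨x2, hx2g, hmem, hval⟩)
    (add_mem (nsub_mono hsub k (huN x2)) (add_mem (htN x2) hn')) ?_
  rintro ⟨-, hh⟩
  exact htne ((AddSubgroup.add_mem_cancel_left _ (huN x2)).1 hh)

omit hG

theorem wit_succ {X : Set G} {k m : ℕ} {g : G} (hg : Wit p X k m g) :
    ∃ g', g⁻¹ * g' ∈ gam G 1 ∧ Wit p X (k + 1) m g' := by
  obtain ⟨u, hu, -, hC⟩ := hg 1 (one_mem _)
  rw [mul_one] at hC
  refine ⟨g * u, by rw [inv_mul_cancel_left]; exact gamp_le_one k hu, fun v hv => ?_⟩
  refine ⟨1, one_mem _, fun h => ?_, hC.trans ?_⟩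
  · rw [commutatorElement_one_left, el_one]
    exact zero_mem _
  rw [mul_one, cnt, cnt, Finset.prod_Icc_succ_top (by omega)]
  refine le_trans ?_ (Nat.le_mul_of_pos_right _
    (card_pos_of_le_lay (inf_le_left.trans (cset_le_lay _ _ _))))
  refine (Finset.prod_congr rfl fun j hj => ?_).le
  rw [cset_mul_eq (Nat.lt_succ_of_le (Finset.mem_Icc.1 hj).2) _ _ hv]

/-- One step enlarges the total of the images by at most the defect. -/
theorem prod_step {b : ℕ} (hb : ∀ x : G, (Subgroup.centralizer ({x} : Set G)).index ≤ p ^ b)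
    {X : Set G} {k m K : ℕ} (hkK : k ≤ K) {a g : G} (hga : a⁻¹ * g ∈ gen X)
    (hg : Wit p X k m g) :
    (∏ j ∈ Finset.Icc 1 K, Nat.card (nsub (insert a X) j)) * p ^ m ≤
      (∏ j ∈ Finset.Icc 1 K, Nat.card (nsub X j)) * p ^ b := by
  obtain ⟨u, hu, -, hC⟩ := hg 1 (one_mem _)
  rw [mul_one] at hC
  set g' := g * u
  have hg' : a⁻¹ * g' ∈ gen X := by
    rw [← mul_assoc]
    exact mul_mem hga (gam_one_le_gen X (gamp_le_one k hu))
  have hle : ∀ j, 1 ≤ j → nsub (insert a X) j ≤ nsub X j ⊔ cset ⊤ g' j := by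
    intro j hj
    refine (AddSubgroup.closure_le _).2 ?_
    rintro _ ⟨x, hx, y, hy, rfl⟩
    rcases Set.mem_insert_iff.1 hx with rfl | hx
    · have e : ⁅el 0 x, el (j - 1) y⁆ =
          -⁅el 0 (x⁻¹ * g'), el (j - 1) y⁆ + ⁅el 0 g', el (j - 1) y⁆ := by
        conv_rhs => arg 2; rw [show g' = x * (x⁻¹ * g') by rw [mul_inv_cancel_left], el_zero_mul,
          add_lie]
        abel
      rw [e]
      exact add_mem
        (AddSubgroup.mem_sup_left (neg_mem (lie_gen_mem_nsub hg' (el_mem_lay hy))))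
        (AddSubgroup.mem_sup_right (mem_cset.2
          ⟨y, trivial, comm_mem_pred hj _ hy, (lie_el_zero hj _ hy).symm⟩))
    · exact AddSubgroup.mem_sup_left (AddSubgroup.subset_closure ⟨x, hx, y, hy, rfl⟩)
  set D := fun j => Nat.card ↥(nsub X j ⊓ cset ⊤ g' j)
  have hD : p ^ m ≤ ∏ j ∈ Finset.Icc 1 K, D j := by
    refine hC.trans ?_
    rw [cnt]
    refine le_trans (Finset.prod_le_prod' fun j _ => card_mono_lay
      (D' := nsub X j ⊓ cset ⊤ g' j)
      (le_inf inf_le_right (inf_le_left.trans (cset_mono le_top g' j)))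
      (inf_le_right.trans (cset_le_lay _ _ _))) ?_
    exact Finset.prod_le_prod_of_subset_of_one_le'
      (Finset.Icc_subset_Icc le_rfl hkK)
      (fun j _ _ => card_pos_of_le_lay (inf_le_right.trans (cset_le_lay _ _ _)))
  calc (∏ j ∈ Finset.Icc 1 K, Nat.card (nsub (insert a X) j)) * p ^ m
      ≤ (∏ j ∈ Finset.Icc 1 K, Nat.card (nsub (insert a X) j)) *
          ∏ j ∈ Finset.Icc 1 K, D j := Nat.mul_le_mul_left _ hD
    _ = ∏ j ∈ Finset.Icc 1 K, Nat.card (nsub (insert a X) j) * D j := Finset.prod_mul_distrib.symm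
    _ ≤ ∏ j ∈ Finset.Icc 1 K, Nat.card (nsub X j) * Nat.card (cset (⊤ : Subgroup G) g' j) := by
        refine Finset.prod_le_prod' fun j hj => ?_
        have hj1 := (Finset.mem_Icc.1 hj).1
        rw [← addCard_sup_mul_inf (nsub X j) (cset ⊤ g' j)]
        exact Nat.mul_le_mul_right _ (card_mono_lay (hle j hj1)
          (sup_le (nsub_le_lay hj1) (cset_le_lay _ _ _)))
    _ = _ := Finset.prod_mul_distrib
    _ ≤ _ := Nat.mul_le_mul_left _ (prod_card_cset_le hb g' K)

include hG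

/-- The inductive statement. -/
theorem main_induction {b : ℕ}
    (hb : ∀ x : G, (Subgroup.centralizer ({x} : Set G)).index ≤ p ^ b) (K : ℕ) :
    ∀ (n k : ℕ) (X : Set G) (H : Subgroup G) (m : ℕ), n + m = b → 1 ≤ k → IsCoatom H →
      H.Normal → (∀ z, z ∉ H → ∃ g, z⁻¹ * g ∈ gen X ∧ Wit p X k m g) →
      (∀ j, 1 ≤ j → j < k → lay G j ≤ nsub X j) →
      ∏ j ∈ Finset.Icc 1 K, Nat.card (lay G j) ≤
        (∏ j ∈ Finset.Icc 1 K, Nat.card (nsub X j)) * p ^ (n * (n + 1) / 2) := by
  intro n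
  induction n using Nat.strong_induction_on with
  | _ n ihn =>
    intro k
    induction hd : K + 1 - k using Nat.strong_induction_on generalizing k with
    | _ d ihd =>
      intro X H m hnm hk hH hHn hgood hlow
      by_cases hkK : K < k
      · refine le_trans ?_ (Nat.le_mul_of_pos_right _ (pow_pos (Fact.out : p.Prime).pos _))
        exact Finset.prod_le_prod' fun j hj => card_mono_lay
          (hlow j (Finset.mem_Icc.1 hj).1 (by have := (Finset.mem_Icc.1 hj).2; omega))
          (nsub_le_lay (Finset.mem_Icc.1 hj).1)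
      by_cases hfull : lay G k ≤ nsub X k
      · refine ihd (K + 1 - (k + 1)) (by omega) (k + 1) rfl X H m hnm (by omega) hH hHn ?_ ?_
        · intro z hz
          obtain ⟨g, hg1, hg2⟩ := hgood z hz
          obtain ⟨g', hg', hw⟩ := wit_succ hg2
          refine ⟨g', ?_, hw⟩
          rw [show z⁻¹ * g' = z⁻¹ * g * (g⁻¹ * g') by simp [mul_assoc]]
          exact mul_mem hg1 (gam_one_le_gen X hg')
        · intro j h1 h2
          rcases Nat.lt_succ_iff_lt_or_eq.1 h2 with h | rfl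
          · exact hlow j h1 h
          · exact hfull
      have hmem : ∀ {z g c : G}, z⁻¹ * g ∈ gen X →
          (g ∈ uset p X k c ↔ z ∈ uset p X k c) := by
        intro z g c hzg
        rw [show g = z * (z⁻¹ * g) by simp]
        exact Subgroup.mul_mem_cancel_right _ (gen_le_uset X k c hzg)
      -- a nonzero form gives a witness
      have hform : ∀ {a z : G}, z ∉ H → z ∉ uset p X k a →
          ∃ g, z⁻¹ * g ∈ gen X ∧ Wit p (insert a X) k (m + 1) g := by
        intro a z hz hzU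
        obtain ⟨g, hzg, hg⟩ := hgood z hz
        have hgU : g ∉ uset p X k a := fun h => hzU ((hmem hzg).1 h)
        rw [mem_uset] at hgU
        push Not at hgU
        obtain ⟨w, hw, hl, hne⟩ := hgU
        exact ⟨g, hzg, wit_of_form hG hk hg hw hl fun h => hne (nsub_le_msub X k h)⟩
      -- some `a` outside `H` has a nonzero form
      obtain ⟨a0, ha0, ha0U⟩ : ∃ a, a ∉ H ∧ uset p X k a ≠ ⊤ := by
        by_contra hcon
        push Not at hcon
        apply hfull
        refine lay_le_of_le_sup_smul hG ((lay_le_brackets hk).trans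
          ((AddSubgroup.closure_le _).2 ?_))
        rintro _ ⟨u, v, hv, rfl⟩
        have hle : lay G (k - 1) ≤ (msub p X k).comap (br G (el 0 u)) := by
          refine (lay_le_words (X := X) (k - 1) fun i h1 h2 => hlow i h1 (by omega)).trans
            ((AddSubgroup.closure_le _).2 ?_)
          rintro _ ⟨w, hw, hl, c, rfl⟩
          refine AddSubgroup.mem_comap.2 ?_
          show ⁅el 0 u, wd w (el 0 c)⁆ ∈ msub p X k
          have hout : ∀ c, c ∉ H → ⁅el 0 u, wd w (el 0 c)⁆ ∈ msub p X k := fun c hc =>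
            (hcon c hc ▸ Subgroup.mem_top u : u ∈ uset p X k c) w hw (by omega)
          by_cases hc : c ∈ H
          · obtain ⟨q, hq⟩ : ∃ q, q ∉ H := SetLike.exists_not_mem_of_ne_top _ hH.1 rfl
            have h1 := hout (c * q) fun h => hq ((Subgroup.mul_mem_cancel_left H hc).1 h)
            rw [el_zero_mul, wd_add, lie_add] at h1
            exact (AddSubgroup.add_mem_cancel_right _ (hout q hq)).1 h1
          · exact hout c hc
        exact hle hv
      -- the step
      obtain ⟨a, ha, haU, H', hH', hH'n, hgood'⟩ : ∃ a, a ∉ H ∧ uset p X k a ≠ ⊤ ∧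
          ∃ H' : Subgroup G, IsCoatom H' ∧ H'.Normal ∧
            ∀ z, z ∉ H' → ∃ g, z⁻¹ * g ∈ gen (insert a X) ∧ Wit p (insert a X) k (m + 1) g := by
        by_cases hA : ∃ a, a ∉ H ∧ uset p X k a ≠ ⊤ ∧
            uset p X k a ⊔ Subgroup.zpowers a ≠ ⊤
        · obtain ⟨a, ha, haU, htop⟩ := hA
          obtain ⟨H', hH', hle⟩ := (eq_top_or_exists_le_coatom _).resolve_left htop
          have := hG.isNilpotent
          have hH'n : H'.Normal :=
            Subgroup.NormalizerCondition.normal_of_coatom H' Group.normalizerCondition_of_isNilpotent hH'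
          refine ⟨a, ha, haU, H', hH', hH'n, fun z hz => ?_⟩
          have hzU : z ∉ uset p X k a := fun h => hz (hle (le_sup_left
            (b := Subgroup.zpowers a) h))
          by_cases hzH : z ∈ H
          · have h1 : z * a ∉ H := fun h => ha ((Subgroup.mul_mem_cancel_left H hzH).1 h)
            have h2 : z * a ∉ uset p X k a := fun h => hz (hle (by
              have h3 := mul_mem (le_sup_left (b := Subgroup.zpowers a) h)
                (le_sup_right (a := uset p X k a) (inv_mem (Subgroup.mem_zpowers a)))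
              rwa [mul_inv_cancel_right] at h3))
            obtain ⟨g, hg1, hg2⟩ := hform h1 h2
            refine ⟨g, ?_, hg2⟩
            rw [show z⁻¹ * g = a * ((z * a)⁻¹ * g) by simp [mul_assoc]]
            exact mul_mem (subset_gen (Set.mem_insert a X))
              (gen_mono (Set.subset_insert a X) hg1)
          · obtain ⟨g, hg1, hg2⟩ := hform hzH hzU
            exact ⟨g, gen_mono (Set.subset_insert a X) hg1, hg2⟩
        · push Not at hA
          have hcase : ∀ c, c ∉ H →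
              uset p X k c = ⊤ ∨ uset p X k c ⊔ Subgroup.zpowers c = ⊤ := fun c hc =>
            (em _).imp_right (hA c hc)
          have haU' : a0 ∉ uset p X k a0 := fun h => ha0U (by
            rw [← hA a0 ha0 ha0U, sup_eq_left.2 (Subgroup.zpowers_le.2 h)])
          have hk2 : 2 ≤ k := by
            by_contra hk2
            refine haU' fun w hw hl => ?_
            obtain rfl : w = [] := List.eq_nil_of_length_eq_zero (by omega)
            show ⁅el 0 a0, el 0 a0⁆ ∈ msub p X k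
            rw [lie_self]
            exact zero_mem _
          have hout : ∀ z, z ∉ H →
              ∃ g, z⁻¹ * g ∈ gen X ∧ Wit p (insert a0 X) k (m + 1) g := by
            intro z hz
            by_cases hzU : z ∈ uset p X k a0
            · obtain ⟨g, hzg, hg⟩ := hgood z hz
              refine ⟨g, hzg, wit_of_translate hG hk2 hlow haU' ?_ hg⟩
              refine (lay_le_two_images hG hlow hk hH hHn hcase ha0 ha0U hz hzU).trans
                (sup_le le_sup_left ?_)
              rintro _ ⟨v, hv, rfl⟩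
              show ⁅el 0 z, v⁆ ∈ _
              rw [show el 0 z = el 0 g - el 0 (z⁻¹ * g) by
                rw [el_zero_mul, el_inv (mem_gam_zero z)]; abel, sub_lie]
              exact sub_mem (AddSubgroup.mem_sup_right ⟨v, hv, rfl⟩) (AddSubgroup.mem_sup_left
                (nsub_mono (Set.subset_insert a0 X) k (lie_gen_mem_nsub hzg hv)))
            · exact hform hz hzU
          refine ⟨a0, ha0, ha0U, H, hH, hHn, fun z hz => ?_⟩
          obtain ⟨g, hg1, hg2⟩ := hout z hz
          exact ⟨g, gen_mono (Set.subset_insert a0 X) hg1, hg2⟩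
      obtain ⟨ga, hga, hgaW⟩ := hgood a ha
      have hstep := prod_step hb (K := K) (by omega) hga hgaW
      -- the total grows strictly, so `m < b`
      have hN : nsub X k < nsub (insert a X) k := by
        refine lt_of_le_of_ne (nsub_mono (Set.subset_insert a X) k) fun he => haU ?_
        refine eq_top_iff.2 fun z _ w hw hl => nsub_le_msub X k ?_
        rw [he]
        exact form_mem_insert hw hl z a
      have hp1 := (Fact.out : p.Prime).one_lt
      have hlt : (∏ j ∈ Finset.Icc 1 K, Nat.card (nsub X j)) <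
          ∏ j ∈ Finset.Icc 1 K, Nat.card (nsub (insert a X) j) := by
        refine Finset.prod_lt_prod (fun j hj => card_pos_of_le_lay
          (nsub_le_lay (Finset.mem_Icc.1 hj).1)) (fun j hj => card_mono_lay
          (nsub_mono (Set.subset_insert a X) j) (nsub_le_lay (Finset.mem_Icc.1 hj).1))
          ⟨k, Finset.mem_Icc.2 ⟨hk, by omega⟩, ?_⟩
        have h1 := mul_card_le hG hN (nsub_le_lay hk)
        have h2 : 0 < Nat.card (nsub X k) := card_pos_of_le_lay (nsub_le_lay hk)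
        exact lt_of_lt_of_le (lt_mul_of_one_lt_left h2 hp1) h1
      obtain ⟨n', rfl⟩ : ∃ n', n = n' + 1 := by
        refine Nat.exists_eq_succ_of_ne_zero fun h0 => ?_
        subst h0
        rw [show m = b by omega] at hstep
        exact absurd (Nat.le_of_mul_le_mul_right hstep (pow_pos (by omega) b)) hlt.not_ge
      have hrec := ihn n' (by omega) k (insert a X) H' (m + 1) (by omega) hk hH' hH'n hgood'
        (fun j h1 h2 => (hlow j h1 h2).trans (nsub_mono (Set.subset_insert a X) j))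
      have hstep' : (∏ j ∈ Finset.Icc 1 K, Nat.card (nsub (insert a X) j)) ≤
          (∏ j ∈ Finset.Icc 1 K, Nat.card (nsub X j)) * p ^ (n' + 1) := by
        refine Nat.le_of_mul_le_mul_right ?_ (pow_pos (by omega : 0 < p) m)
        rw [mul_assoc, ← pow_add, hnm]
        exact hstep
      refine hrec.trans ((Nat.mul_le_mul_right _ hstep').trans (le_of_eq ?_))
      rw [mul_assoc, ← pow_add]
      congr 2
      rw [show (n' + 1) * (n' + 1 + 1) = n' * (n' + 1) + (n' + 1) * 2 by ring,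
        Nat.add_mul_div_right _ _ (by omega)]
      ring

/-- Vaughan-Lee's theorem. -/
theorem card_commutator_le {b : ℕ}
    (hb : ∀ x : G, (Subgroup.centralizer ({x} : Set G)).index ≤ p ^ b) :
    Nat.card (commutator G) ≤ p ^ (b * (b + 1) / 2) := by
  rcases subsingleton_or_nontrivial G with hs | hs
  · rw [Nat.card_eq_one_iff_unique.2 ⟨inferInstance, inferInstance⟩]
    exact Nat.one_le_pow _ _ (Fact.out : p.Prime).pos
  have := hG.isNilpotent
  obtain ⟨K, hK⟩ : ∃ K, gam G (K + 1) = ⊥ := by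
    obtain ⟨K, hK⟩ := Subgroup.nilpotent_iff_lowerCentralSeries.1 this
    exact ⟨K, le_bot_iff.1 ((gam_anti (Nat.le_succ K)).trans hK.le)⟩
  obtain ⟨H, hH, -⟩ := (eq_top_or_exists_le_coatom (⊥ : Subgroup G)).resolve_left bot_ne_top
  have hHn : H.Normal :=
    Subgroup.NormalizerCondition.normal_of_coatom H Group.normalizerCondition_of_isNilpotent hH
  have h := main_induction hG hb K b 1 (∅ : Set G) H 0 (by omega) le_rfl hH hHn
    (fun z _ => ⟨z, by rw [inv_mul_cancel]; exact one_mem _, fun v _ => ⟨1, one_mem _,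
      fun h => by rw [commutatorElement_one_left, el_one]; exact zero_mem _, by
        rw [pow_zero]
        exact Finset.one_le_prod' fun j _ =>
          card_pos_of_le_lay (inf_le_left.trans (cset_le_lay _ _ _))⟩⟩)
    (fun j h1 h2 => by omega)
  rw [prod_card_lay, hK, Subgroup.relIndex_bot_left, gam_one_eq] at h
  simpa [nsub_empty] using h

end Finite

end CfsgLib.Breadth
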